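import Groth.Agent.Lib.FreeCompact.BddBelow
import Groth.Agent.Lib.CohomColim.Collection
import Groth.Agent.Lib.DerCat.PresCoprod
import Groth.Agent.Lib.ModSS29.ExtCompare
import Mathlib.Algebra.Homology.DerivedCategory.Ext.Map
import Mathlib.CategoryTheory.Preadditive.AdditiveFunctor

/-!
# Ext out of free modules commutes with direct sums on a collection of finite coverings
-/

set_option autoImplicit false
set_option linter.unusedSectionVars false
set_option linter.style.haveILetI false

universe v u₁ u₂ u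

open CategoryTheory CategoryTheory.Limits Opposite Abelian

namespace Groth.Agent.Lib.FreeCompact.ExtCollection

section Compare

variable {A : Type u₁} [Category.{v} A] [Abelian A] [HasExt.{v} A] [EnoughInjectives A]
  {B : Type u₂} [Category.{v} B] [Abelian B] [HasExt.{v} B]
  (E : A ⥤ B) [E.Additive] [PreservesFiniteLimits E] [PreservesFiniteColimits E]
  {P : A} {W : B} (η : W ⟶ E.obj P)

/-- The comparison of Ext groups along an exact functor. -/
noncomputable def cmp (M : A) (n : ℕ) : Ext P M n →+ Ext W (E.obj M) n :=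
  ((Ext.mk₀ η).precomp (E.obj M) (zero_add n)).comp (E.mapExtAddHom P M n)

lemma cmp_apply {M : A} {n : ℕ} (x : Ext P M n) :
    cmp E η M n x = (Ext.mk₀ η).comp (x.mapExactFunctor E) (zero_add n) := rfl

lemma cmp_comp {M N : A} {n m k : ℕ} (x : Ext P M n) (y : Ext M N m) (h : n + m = k) :
    cmp E η N k (x.comp y h) = (cmp E η M n x).comp (y.mapExactFunctor E) h := by
  rw [cmp_apply, cmp_apply, Ext.mapExactFunctor_comp,
    Ext.comp_assoc (a₁₂ := n) (a₂₃ := k) _ _ _ (zero_add n) h (by omega)]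

theorem cmp_bijective (h0 : ∀ M, Function.Bijective fun s : P ⟶ M => η ≫ E.map s)
    (hW : ∀ (I : A) [Injective I] (p : ℕ), Subsingleton (Ext W (E.obj I) (p + 1))) (n : ℕ) :
    ∀ M, Function.Bijective (cmp E η M n) := by
  induction n with
  | zero =>
    intro M
    have : ∀ s : P ⟶ M, cmp E η M 0 (Ext.mk₀ s) = Ext.mk₀ (η ≫ E.map s) := fun s => by
      rw [cmp_apply, Ext.mapExactFunctor_mk₀, Ext.mk₀_comp_mk₀]
    refine (Function.Bijective.of_comp_iff _ (Ext.mk₀_bijective P M)).1 ?_
    rw [show cmp E η M 0 ∘ Ext.mk₀ = Ext.mk₀ ∘ fun s : P ⟶ M => η ≫ E.map s from funext this]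
    exact (Ext.mk₀_bijective _ _).comp (h0 M)
  | succ n ih =>
    intro M
    let S : ShortComplex A := ShortComplex.mk (Injective.ι M) (cokernel.π _) (cokernel.condition _)
    have hS : S.ShortExact := { exact := ShortComplex.exact_of_g_is_cokernel _ (cokernelIsCokernel _) }
    have hS' : (S.map E).ShortExact := hS.map_of_exact E
    haveI hI : Injective S.X₂ := inferInstanceAs (Injective (Injective.under M))
    have hδ : ∀ y : Ext P S.X₃ n, cmp E η M (n + 1) (y.comp hS.extClass rfl) =
        (cmp E η S.X₃ n y).comp hS'.extClass rfl := fun y => by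
      refine (cmp_comp E η y hS.extClass rfl).trans ?_
      rw [Ext.mapExactFunctor_extClass]
      rfl
    refine ⟨(injective_iff_map_eq_zero _).2 fun x hx => ?_, fun x' => ?_⟩
    · obtain ⟨y, rfl⟩ := Ext.covariant_sequence_exact₁ P hS x (Ext.eq_zero_of_injective _) rfl
      rw [hδ] at hx
      obtain ⟨t, ht⟩ := Ext.covariant_sequence_exact₃ W hS' _ rfl hx
      obtain ⟨t', rfl⟩ := (ih S.X₂).2 t
      have e : cmp E η S.X₃ n (t'.comp (Ext.mk₀ S.g) (add_zero n)) = cmp E η S.X₃ n y := by
        refine (cmp_comp E η t' (Ext.mk₀ S.g) (add_zero n)).trans (Eq.trans ?_ ht)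
        rw [Ext.mapExactFunctor_mk₀]
        rfl
      rw [← (ih S.X₃).1 e, Ext.comp_assoc (a₁₂ := n) (a₂₃ := 1) t' _ _ (add_zero n) (zero_add 1) (by omega),
        ShortComplex.ShortExact.comp_extClass, Ext.comp_zero]
    · obtain ⟨y', rfl⟩ := Ext.covariant_sequence_exact₁ W hS' x' ((hW S.X₂ n).elim _ _) rfl
      obtain ⟨y, rfl⟩ := (ih S.X₃).2 y'
      exact ⟨y.comp hS.extClass rfl, hδ y⟩

end Compare

section Site

open Groth.Agent.Lib.RlimTrunc Groth.Agent.Lib.DerCat

variable {C : Type u} [SmallCategory C] [HasPullbacks C] {J : GrothendieckTopology C}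
  (O : Sheaf J CommRingCat.{u}) {B : Set C} {Cov : ∀ (U : C) (ι : Type u), (ι → Over U) → Prop}
  (hB : CohomColim.Collection.IsFinCollection J B Cov)

include hB in
theorem preservesCoproducts_ext {U : C} (hU : U ∈ B) (n : ℕ) (ι : Type u) :
    PreservesColimitsOfShape (Discrete ι) ((extFunctor.{u} n).obj (op (CohCx.freeSheaf J U))) := by
  haveI : PreservesColimitsOfShape (Finset (Discrete ι))
      ((extFunctor.{u} n).obj (op (CohCx.freeSheaf J U))) :=
    ⟨fun {D} => CohomColim.Collection.preservesColimit hB D hU n⟩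
  haveI : ((extFunctor.{u} n).obj (op (CohCx.freeSheaf J U))).Additive :=
    ⟨fun {X Y f g} => by
      ext x
      change x.comp (Ext.mk₀ (f + g)) (add_zero n) =
        x.comp (Ext.mk₀ f) (add_zero n) + x.comp (Ext.mk₀ g) (add_zero n)
      rw [Ext.mk₀_add, Ext.comp_add]⟩
  haveI : PreservesFiniteCoproducts ((extFunctor.{u} n).obj (op (CohCx.freeSheaf J U))) :=
    inferInstance
  exact PresCoprod.preservesColimitsOfShape_discrete _ ι

include hB in
/-- Ext classes out of free modules into sums are finitely supported. -/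
theorem exists_cut [HasExt.{u} (_root_.ModSite.Mod O)] {U : C} (hU : U ∈ B) (n : ℕ) {ι : Type u}
    (F : ι → _root_.ModSite.Mod O) (x : Ext (_root_.ModSite.freeOn O U) (∐ F) n) :
    ∃ T : Finset ι, x.comp (Ext.mk₀ (Compact.cut F T)) (add_zero n) = x := by
  classical
  haveI := DerivedOX.Grothendieck.isGrothendieckAbelian_sheafOfModules (_root_.ModSite.ringSh O)
  let E := SheafOfModules.toSheaf.{u} (_root_.ModSite.ringSh O)
  let P := (ModSheaf.free O).obj U
  let W := (AbSheaf.free J).obj U
  let η : W ⟶ E.obj P := Groth.Agent.Lib.FreeMod.TotAcyclic.κ O (yoneda.obj U)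
  have hη : ∀ (M : _root_.ModSite.Mod O) (s : P ⟶ M), η ≫ E.map s = ModSheaf.e O U M s := fun M s =>
    (Groth.Agent.Lib.FreeMod.TotAcyclic.homEquivAb_eq O (yoneda.obj U) s).symm
  have hbij := cmp_bijective E η (fun M => by
      rw [show (fun s : P ⟶ M => η ≫ E.map s) = ModSheaf.e O U M from funext (hη M)]
      exact (ModSheaf.e O U M).bijective)
    (fun I _ p => SiteCoh.FreeSheaf.subsingleton_hu_of_isTotallyAcyclic
      (ModSS29.TA.ta_injective O I) U p) n
  let ιf := (FinPresFree.Site.freeIso O U)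
  let y : Ext P (∐ F) n := (Ext.mk₀ ιf.inv).comp x (zero_add n)
  suffices h : ∃ T : Finset ι, y.comp (Ext.mk₀ (Compact.cut F T)) (add_zero n) = y by
    obtain ⟨T, hT⟩ := h
    refine ⟨T, ?_⟩
    have h' := congrArg (fun z => (Ext.mk₀ ιf.hom).comp z (zero_add n)) hT
    simp only [y, Ext.comp_assoc_of_third_deg_zero, Ext.mk₀_comp_mk₀_assoc, Iso.hom_inv_id,
      Ext.mk₀_id_comp] at h'
    exact h'
  haveI := preservesCoproducts_ext hB hU n ι
  let H := E ⋙ (extFunctor.{u} n).obj (op (CohCx.freeSheaf J U))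
  let c := isColimitCofanMkObjOfIsColimit H _ _ (coproductIsCoproduct F)
  let z : H.obj (∐ F) := cmp E η (∐ F) n y
  let Q : AddSubgroup (H.obj (∐ F) : Type u) :=
    { carrier := { z | ∃ T : Finset ι, H.map (Compact.cut F T) z = z }
      zero_mem' := ⟨∅, map_zero _⟩
      add_mem' := by
        rintro a b ⟨T, hT⟩ ⟨T', hT'⟩
        refine ⟨T ∪ T', ?_⟩
        have mono : ∀ (T T' : Finset ι), T ⊆ T' → ∀ z, H.map (Compact.cut F T) z = z →
            H.map (Compact.cut F T') z = z := fun T T' h z hz => by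
          conv_lhs => rw [← hz]
          rw [← ConcreteCategory.comp_apply, ← H.map_comp, Compact.cut_comp F h, hz]
        rw [map_add, mono _ _ Finset.subset_union_left _ hT, mono _ _ Finset.subset_union_right _ hT']
      neg_mem' := by
        rintro a ⟨T, hT⟩
        exact ⟨T, by rw [map_neg, hT]⟩ }
  let q : H.obj (∐ F) ⟶ AddCommGrpCat.of ((H.obj (∐ F) : Type u) ⧸ Q) :=
    AddCommGrpCat.ofHom (QuotientAddGroup.mk' Q)
  have hq : q = 0 := Cofan.IsColimit.hom_ext c _ _ fun i => by
    refine AddCommGrpCat.ext fun g => ?_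
    change QuotientAddGroup.mk' Q (H.map (Sigma.ι F i) g) = 0
    refine (QuotientAddGroup.eq_zero_iff _).2 ⟨{i}, ?_⟩
    rw [← ConcreteCategory.comp_apply, ← H.map_comp, Compact.ι_cut,
      if_pos (Finset.mem_singleton_self i)]
  obtain ⟨T, hT⟩ := (QuotientAddGroup.eq_zero_iff z).1 (ConcreteCategory.congr_hom hq z)
  refine ⟨T, (hbij (∐ F)).1 ?_⟩
  rw [cmp_comp, Ext.mapExactFunctor_mk₀]
  exact hT

include hB in
/-- Maps from free modules into bounded below sums. -/
theorem bijective_freeOn [HasDerivedCategory.{u} (_root_.ModSite.Mod O)] {U : C} (hU : U ∈ B)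
    {ι : Type u} (M : ι → DerivedCategory (_root_.ModSite.Mod O)) [HasCoproduct M] (a : ℤ)
    (hM : ∀ i, (M i).IsGE a) :
    Function.Bijective (CohDer.homSumToHomCoprod
      ((DerivedCategory.singleFunctor (_root_.ModSite.Mod O) 0).obj (_root_.ModSite.freeOn O U)) M) := by
  haveI := DerivedOX.Grothendieck.isGrothendieckAbelian_sheafOfModules (_root_.ModSite.ringSh O)
  exact BddBelow.bijective_homSum _ (fun n ι F x => exists_cut O hB hU n F x) M a hM

end Site

end Groth.Agent.Lib.FreeCompact.ExtCollection
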