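import Groth.Agent.Lib.FinPresFree.Site
import Groth.Agent.Lib.DerCat.Compact
import Groth.Agent.Lib.DerivedOX.Grothendieck
import Mathlib.CategoryTheory.Sites.EpiMono
import Mathlib.CategoryTheory.Sites.LocallySurjective
import Mathlib.CategoryTheory.Limits.FunctorCategory.Basic
import Mathlib.Algebra.Category.Grp.Colimits

/-!
# Sections of direct sums of sheaves of modules are locally finite sums
-/

set_option autoImplicit false
set_option linter.unusedSectionVars false

universe u

open CategoryTheory CategoryTheory.Limits Opposite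

namespace Groth.Agent.Lib.FreeCompact

open Groth.Agent.Lib.FinPresFree.Site Groth.Agent.Lib.RlimTrunc Groth.Agent.Lib.DerCat

variable {C : Type u} [SmallCategory C] {J : GrothendieckTopology C} (O : Sheaf J CommRingCat.{u})

variable {ι : Type u} (F : ι → _root_.ModSite.Mod O)

lemma cut_mono {T T' : Finset ι} (h : T ⊆ T') {W : _root_.ModSite.Mod O} {x : W ⟶ ∐ F}
    (hx : x ≫ Compact.cut F T = x) : x ≫ Compact.cut F T' = x := by
  conv_lhs => rw [← hx]
  rw [Category.assoc, Compact.cut_comp F h, hx]

/-- A map out of a free module into a sum lands locally in finite partial sums. -/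
theorem exists_local_cut {U : C} (s : (free O).obj U ⟶ ∐ F) :
    ∃ S ∈ J U, ∀ ⦃V : C⦄ (f : V ⟶ U), S.arrows f →
      ∃ T : Finset ι, ((free O).map f ≫ s) ≫ Compact.cut F T = (free O).map f ≫ s := by
  classical
  let toS := SheafOfModules.toSheaf.{u} (_root_.ModSite.ringSh O)
  let P : ι → Cᵒᵖ ⥤ AddCommGrpCat.{u} := fun i => (toS.obj (F i)).obj
  let j : (∐ P) ⟶ (toS.obj (∐ F)).obj := Sigma.desc fun i => (toS.map (Sigma.ι F i)).hom
  have hj : Presheaf.IsLocallySurjective J j := by
    let φ : (presheafToSheaf J AddCommGrpCat.{u}).obj (∐ P) ⟶ toS.obj (∐ F) :=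
      ((sheafificationAdjunction J AddCommGrpCat.{u}).homEquiv _ _).symm j
    have hφ : toSheafify J (∐ P) ≫ φ.hom = j := by
      have := ((sheafificationAdjunction J AddCommGrpCat.{u}).homEquiv (∐ P) (toS.obj (∐ F))).apply_symm_apply j
      rw [Adjunction.homEquiv_unit] at this
      exact this
    haveI : Epi φ := by
      refine Preadditive.epi_of_cancel_zero _ fun {Z} k hk => ?_
      have hc := isColimitCofanMkObjOfIsColimit toS _ _ (coproductIsCoproduct F)
      refine Cofan.IsColimit.hom_ext hc _ _ fun i => ?_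
      change toS.map (Sigma.ι F i) ≫ k = toS.map (Sigma.ι F i) ≫ 0
      rw [comp_zero]
      apply Sheaf.hom_ext
      have h1 : Sigma.ι P i ≫ j ≫ k.hom = 0 := by
        rw [← hφ]
        change Sigma.ι P i ≫ (toSheafify J (∐ P) ≫ φ.hom) ≫ k.hom = 0
        rw [Category.assoc]
        have : φ.hom ≫ k.hom = 0 := congrArg (fun t => t.hom) hk
        rw [this, comp_zero, comp_zero]
      rw [← Category.assoc, Sigma.ι_desc] at h1
      exact h1
    haveI : Sheaf.IsLocallySurjective φ := (Sheaf.isLocallySurjective_iff_epi' (φ := φ)).2 inferInstance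
    haveI : Presheaf.IsLocallySurjective J φ.hom := inferInstanceAs (Sheaf.IsLocallySurjective φ)
    rw [← hφ]
    infer_instance
  refine ⟨Presheaf.imageSieve j (secOf O U _ s), Presheaf.imageSieve_mem J j _, fun V f hf => ?_⟩
  obtain ⟨t, ht⟩ := hf
  have key : ∀ t : ((∐ P).obj (op V) : Type u), ∃ T : Finset ι,
      (Compact.cut F T).val.app (op V) (j.app (op V) t) = j.app (op V) t := by
    let Q : AddSubgroup ((∐ P).obj (op V) : Type u) :=
      { carrier := { t | ∃ T : Finset ι,
          (Compact.cut F T).val.app (op V) (j.app (op V) t) = j.app (op V) t }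
        zero_mem' := ⟨∅, by simp only [map_zero]; exact map_zero _⟩
        add_mem' := by
          rintro a b ⟨T, hT⟩ ⟨T', hT'⟩
          refine ⟨T ∪ T', ?_⟩
          have mono : ∀ (T T' : Finset ι), T ⊆ T' → ∀ x : ((toS.obj (∐ F)).obj.obj (op V) : Type u),
              (Compact.cut F T).val.app (op V) x = x → (Compact.cut F T').val.app (op V) x = x := by
            intro T T' h x hx
            have := congrArg (fun g : (∐ F) ⟶ ∐ F => g.val.app (op V) x) (Compact.cut_comp F h)
            change (Compact.cut F T').val.app (op V) ((Compact.cut F T).val.app (op V) x) =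
              (Compact.cut F T).val.app (op V) x at this
            rw [hx] at this
            exact this
          simp only [map_add]
          exact (map_add _ _ _).trans (congrArg₂ (· + ·) (mono _ _ Finset.subset_union_left _ hT)
            (mono _ _ Finset.subset_union_right _ hT'))
        neg_mem' := by
          rintro a ⟨T, hT⟩
          refine ⟨T, ?_⟩
          simp only [map_neg]
          exact (map_neg _ _).trans (congrArg Neg.neg hT) }
    intro t
    have hc := isColimitCofanMkObjOfIsColimit ((evaluation Cᵒᵖ AddCommGrpCat.{u}).obj (op V)) _ _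
      (coproductIsCoproduct P)
    let q : (∐ P).obj (op V) ⟶ AddCommGrpCat.of (((∐ P).obj (op V) : Type u) ⧸ Q) :=
      AddCommGrpCat.ofHom (QuotientAddGroup.mk' Q)
    have hq : q = 0 := Cofan.IsColimit.hom_ext hc _ _ fun i => by
      refine AddCommGrpCat.ext fun g => ?_
      change QuotientAddGroup.mk' Q ((Sigma.ι P i).app (op V) g) = 0
      refine (QuotientAddGroup.eq_zero_iff _).2 ⟨{i}, ?_⟩
      have e0 : j.app (op V) ((Sigma.ι P i).app (op V) g) = (Sigma.ι F i).val.app (op V) g :=
        congrArg (fun z => z.app (op V) g)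
          (Sigma.ι_desc (fun i => (toS.map (Sigma.ι F i)).hom) i)
      rw [e0]
      have e1 : Sigma.ι F i ≫ Compact.cut F {i} = Sigma.ι F i := by
        rw [Compact.ι_cut, if_pos (Finset.mem_singleton_self i)]
      exact congrArg (fun z : F i ⟶ ∐ F => z.val.app (op V) g) e1
    exact (QuotientAddGroup.eq_zero_iff t).1 (ConcreteCategory.congr_hom hq t)
  obtain ⟨T, hT⟩ := key t
  refine ⟨T, (secOf O V _).injective ?_⟩
  rw [secOf_comp, secOf_map]
  exact (congrArg _ ht.symm).trans (hT.trans ht)

/-- A map out of the free module on a quasi-compact object into a sum lands in a finite partial sum. -/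
theorem exists_cut {U : C} (hU : CohCx.IsQcObject ((presheafToSheaf J (Type u)).obj (yoneda.obj U)))
    (s : (free O).obj U ⟶ ∐ F) : ∃ T : Finset ι, s ≫ Compact.cut F T = s := by
  classical
  obtain ⟨S, hS, hS'⟩ := exists_local_cut O F s
  obtain ⟨n, W, f, -, hfS, hf⟩ := exists_finite_cover (Set.univ : Set C)
    (fun X => ⟨PUnit, fun _ => X, fun _ => 𝟙 X, by
      have : Sieve.ofArrows (fun _ : PUnit.{u + 1} => X) (fun _ => 𝟙 X) = ⊤ :=
        Sieve.id_mem_iff_eq_top.1 ⟨X, 𝟙 X, 𝟙 X, ⟨PUnit.unit⟩, Category.id_comp _⟩
      rw [this]; exact J.top_mem X, fun _ => Set.mem_univ _⟩) U hU S hS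
  choose T hT using fun k => hS' (f k) (hfS k)
  refine ⟨Finset.univ.biUnion T, sub_eq_zero.1 ?_⟩
  refine (ModSheaf.isDetecting O).eq_zero_of_cover _ W f hf fun k => ?_
  rw [Preadditive.comp_sub, ← Category.assoc,
    cut_mono O F (Finset.subset_biUnion_of_mem T (Finset.mem_univ k)) (hT k), sub_self]

/-- The free module on a weakly contractible object is projective. -/
theorem projective_free {U : C} (hwc : CohSite.IsWeaklyContractible J U) :
    Projective ((free O).obj U) where
  factors {E X} s p hp := by
    haveI := hp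
    let Φ := sheafCompose J (forget AddCommGrpCat.{u})
    let p' := (SheafOfModules.toSheaf.{u} (_root_.ModSite.ringSh O)).map p
    haveI : Sheaf.IsLocallySurjective p' := (Sheaf.isLocallySurjective_iff_epi' (φ := p')).2 inferInstance
    haveI : Sheaf.IsLocallySurjective (Φ.map p') := inferInstance
    obtain ⟨x, hx⟩ := hwc _ _ (Φ.map p')
      ((Sheaf.isLocallySurjective_iff_epi (Φ.map p')).1 inferInstance) (secOf O U X s)
    refine ⟨(secOf O U E).symm x, (secOf O U X).injective ?_⟩
    rw [secOf_comp, Equiv.apply_symm_apply]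
    exact hx

end Groth.Agent.Lib.FreeCompact
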