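import Groth.Agent.Lib.FreeCompact.Derived
import Groth.Agent.Lib.Triangulated.Sums
import Groth.Agent.Lib.DerCat.HProd
import Mathlib.Algebra.Homology.DerivedCategory.Ext.Basic
import Mathlib.Algebra.Homology.DerivedCategory.TStructure
import Mathlib.CategoryTheory.Triangulated.TStructure.TruncLEGT

/-!
# Maps from an object in degree zero to sums of uniformly bounded below objects
-/

set_option autoImplicit false
set_option linter.unusedSectionVars false
set_option linter.style.haveILetI false

universe v u

open CategoryTheory CategoryTheory.Limits CategoryTheory.Pretriangulated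

namespace Groth.Agent.Lib.FreeCompact.BddBelow

open Groth.Agent.Lib.DerCat CohDer

section Gen

variable {D : Type*} [Category.{v} D] [Preadditive D]

lemma map_mem_range {K : D} {ι : Type v} {X Y : ι → D} [HasCoproduct X] [HasCoproduct Y]
    (f : ∀ i, X i ⟶ Y i) {x : K ⟶ ∐ X} (hx : x ∈ (homSumToHomCoprod K X).range) :
    x ≫ Limits.Sigma.map f ∈ (homSumToHomCoprod K Y).range := by
  refine Compact.range_le (P := ((homSumToHomCoprod K Y).range).comap
    (Preadditive.rightComp K (Limits.Sigma.map f))) X (fun i g => ?_) hx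
  change (g ≫ Sigma.ι X i) ≫ Limits.Sigma.map f ∈ (homSumToHomCoprod K Y).range
  rw [Category.assoc, Sigma.ι_map, ← Category.assoc]
  exact Compact.ι_comp_mem_range Y i _

lemma cut_map {ι : Type v} {X Y : ι → D} [HasCoproduct X] [HasCoproduct Y]
    (f : ∀ i, X i ⟶ Y i) (s : Finset ι) :
    Compact.cut X s ≫ Limits.Sigma.map f = Limits.Sigma.map f ≫ Compact.cut Y s := by
  refine Sigma.hom_ext _ _ fun i => ?_
  rw [← Category.assoc, Compact.ι_cut, ← Category.assoc, Sigma.ι_map, Category.assoc, Compact.ι_cut]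
  split_ifs with h
  · rw [Sigma.ι_map]
  · rw [zero_comp, comp_zero]

variable [HasZeroObject D] [HasShift D ℤ] [∀ n : ℤ, (shiftFunctor D n).Additive] [Pretriangulated D]

/-- Extension closure of the families through which all maps from `K` are finitely supported. -/
lemma range_ext₂ {K : D} {ι : Type v} (T : ι → Triangle D) (hT : ∀ i, T i ∈ distTriang D)
    [HasCoproduct fun i => (T i).obj₁] [HasCoproduct fun i => (T i).obj₂]
    [HasCoproduct fun i => (T i).obj₃]
    (h₁ : ∀ x : K ⟶ ∐ fun i => (T i).obj₁, x ∈ (homSumToHomCoprod K _).range)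
    (h₃ : ∀ x : K ⟶ ∐ fun i => (T i).obj₃, x ∈ (homSumToHomCoprod K _).range)
    (x : K ⟶ ∐ fun i => (T i).obj₂) : x ∈ (homSumToHomCoprod K _).range := by
  let g := Limits.Sigma.map fun i => (T i).mor₂
  obtain ⟨s, hs⟩ := Compact.exists_cut (fun i => (T i).obj₃) (h₃ (x ≫ g))
  have hz : (x - x ≫ Compact.cut (fun i => (T i).obj₂) s) ≫ g = 0 := by
    rw [Preadditive.sub_comp, Category.assoc, cut_map, ← Category.assoc, hs, sub_self]
  obtain ⟨z, hz'⟩ := Triangle.coyoneda_exact₂ _ (Triangulated.Sums.coproduct_distinguished T hT) _ hz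
  have h := map_mem_range (fun i => (T i).mor₁) (h₁ z)
  have e : x - x ≫ Compact.cut (fun i => (T i).obj₂) s = z ≫ Limits.Sigma.map fun i => (T i).mor₁ := hz'
  have h' : x - x ≫ Compact.cut (fun i => (T i).obj₂) s ∈ (homSumToHomCoprod K fun i => (T i).obj₂).range := by
    rw [e]; exact h
  have := AddSubgroup.add_mem _ h' (Compact.comp_cut_mem_range (fun i => (T i).obj₂) x s)
  rwa [sub_add_cancel] at this

end Gen

section Derived

variable {A : Type u} [Category.{v} A] [Abelian A] [IsGrothendieckAbelian.{v} A]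
  [HasDerivedCategory.{v} A] [HasExt.{v} A]

local notation "t" => (DerivedCategory.TStructure.t : Triangulated.TStructure (DerivedCategory A))

theorem hasCoproducts : HasCoproducts.{v} (DerivedCategory A) := fun J =>
  HProd.hasColimitsOfShape_derivedCategory (J := J)

variable (G : A)
  (hG : ∀ (n : ℕ) (ι : Type v) (F : ι → A) (x : Abelian.Ext G (∐ F) n),
    ∃ T : Finset ι, x.comp (Abelian.Ext.mk₀ (Compact.cut F T)) (add_zero n) = x)

/-- `Fin'` : maps from `G` into the sum are finitely supported. -/
def Fin' {ι : Type v} (M : ι → DerivedCategory A) [HasCoproduct M] : Prop :=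
  ∀ x : (DerivedCategory.singleFunctor A 0).obj G ⟶ ∐ M,
    x ∈ (homSumToHomCoprod _ M).range

lemma fin'_of_iso {ι : Type v} {M N : ι → DerivedCategory A} [HasCoproduct M] [HasCoproduct N]
    (e : ∀ i, M i ≅ N i) (h : Fin' G M) : Fin' G N := fun x => by
  have := map_mem_range (fun i => (e i).hom) (h (x ≫ Limits.Sigma.map fun i => (e i).inv))
  rwa [Category.assoc, show (Limits.Sigma.map fun i => (e i).inv) ≫ (Limits.Sigma.map fun i => (e i).hom) = 𝟙 _
    from Sigma.hom_ext _ _ fun i => by simp, Category.comp_id] at this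

lemma isGE_sigma {ι : Type v} (M : ι → DerivedCategory A) [HasCoproduct M] (a : ℤ)
    (hM : ∀ i, (M i).IsGE a) : DerivedCategory.IsGE (∐ M) a := by
  rw [DerivedCategory.isGE_iff]
  intro n hn
  haveI := preservesColimit_homology M n
  rw [IsZero.iff_id_eq_zero]
  refine (isColimitOfPreserves (DerivedCategory.homologyFunctor A n)
    (colimit.isColimit (Discrete.functor M))).hom_ext fun j => ?_
  exact ((DerivedCategory.isGE_iff (M j.as) a).1 (hM j.as) n hn).eq_of_src _ _

lemma fin'_of_isGE_one {ι : Type v} (M : ι → DerivedCategory A) [HasCoproduct M]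
    (hM : ∀ i, (M i).IsGE 1) : Fin' G M := fun x => by
  haveI := isGE_sigma M 1 hM
  rw [(t).zero_of_isLE_of_isGE x 0 1 (by norm_num) inferInstance inferInstance]
  exact AddSubgroup.zero_mem _

include hG in
lemma fin'_single {ι : Type v} (H : ι → A) (d : ℤ) (hd : d ≤ 0)
    [HasCoproduct fun i => (DerivedCategory.singleFunctor A d).obj (H i)] :
    Fin' G fun i => (DerivedCategory.singleFunctor A d).obj (H i) := by
  intro x
  let R := DerivedCategory.singleFunctor A d
  haveI := HocolimQ.preservesColimitsOfShape_Q (A := A) ι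
  haveI : PreservesColimitsOfShape (Discrete ι)
      (HomologicalComplex.single A (ComplexShape.up ℤ) d ⋙ DerivedCategory.Q) := inferInstance
  let eR : HomologicalComplex.single A (ComplexShape.up ℤ) d ⋙ DerivedCategory.Q ≅ R :=
    ((SingleFunctors.evaluation _ _ d).mapIso (DerivedCategory.singleFunctorsPostcompQIso A)).symm
  haveI : PreservesColimitsOfShape (Discrete ι) R := preservesColimitsOfShape_of_natIso eR
  let θ : (∐ fun i => R.obj (H i)) ≅ R.obj (∐ H) := (PreservesCoproduct.iso R H).symm
  have hθ : ∀ i, Sigma.ι (fun i => R.obj (H i)) i ≫ θ.hom = R.map (Sigma.ι H i) := fun i => by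
    simp [θ, PreservesCoproduct.inv_hom]
  obtain ⟨n, hn⟩ : ∃ n : ℕ, (n : ℤ) + d = 0 := ⟨(-d).toNat, by omega⟩
  let σ := ((DerivedCategory.singleFunctors A).shiftIso (n : ℤ) d 0 hn)
  let e : Abelian.Ext G (∐ H) n := Abelian.Ext.homEquiv.symm (x ≫ θ.hom ≫ σ.inv.app (∐ H))
  obtain ⟨T, hT⟩ := hG n ι H e
  have hcut : Compact.cut (fun i => R.obj (H i)) T ≫ θ.hom = θ.hom ≫ R.map (Compact.cut H T) := by
    refine Sigma.hom_ext _ _ fun i => ?_
    rw [← Category.assoc, Compact.ι_cut, ← Category.assoc, hθ, ← Functor.map_comp, Compact.ι_cut]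
    split_ifs with hi
    · exact hθ i
    · simp
  have h := congrArg Abelian.Ext.hom hT
  rw [Abelian.Ext.comp_hom, Abelian.Ext.mk₀_hom, ShiftedHom.comp_mk₀] at h
  have he : e.hom = x ≫ θ.hom ≫ σ.inv.app (∐ H) := Equiv.apply_symm_apply _ _
  rw [he] at h
  have hnat := σ.inv.naturality (Compact.cut H T)
  have key : (x ≫ Compact.cut (fun i => R.obj (H i)) T) = x := by
    rw [← cancel_mono θ.hom, ← cancel_mono (σ.inv.app (∐ H))]
    simp only [Category.assoc]
    rw [reassoc_of% hcut]
    refine Eq.trans ?_ h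
    simp only [Category.assoc]
    exact congrArg (fun z => x ≫ θ.hom ≫ z) hnat
  rw [← key]
  exact Compact.comp_cut_mem_range _ x T

include hG in
lemma fin'_bounded : ∀ (k : ℕ) {ι : Type v} (M : ι → DerivedCategory A) [HasCoproduct M] (b : ℤ),
    b ≤ 0 → (∀ i, (M i).IsGE (b - k)) → (∀ i, (M i).IsLE b) → Fin' G M := by
  haveI := hasCoproducts (A := A)
  intro k
  induction k with
  | zero =>
    intro ι M _ b hb hge hle
    have h : ∀ i, ∃ Y, Nonempty (M i ≅ (DerivedCategory.singleFunctor A b).obj Y) := fun i => by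
      haveI := hle i
      haveI : (M i).IsGE b := by simpa using hge i
      exact DerivedCategory.exists_iso_singleFunctor_obj_of_isGE_of_isLE (M i) b
    choose Y e using h
    exact fin'_of_iso G (fun i => (e i).some.symm) (fin'_single G hG Y b hb)
  | succ k ih =>
    intro ι M _ b hb hge hle
    obtain ⟨a, ha⟩ : ∃ a : ℤ, a + 1 = b - k := ⟨b - k - 1, by omega⟩
    have hge' : ∀ i, (M i).IsGE a := fun i => by
      have := hge i
      rwa [show b - ((k + 1 : ℕ) : ℤ) = a by push_cast; omega] at this
    let T : ι → Triangle (DerivedCategory A) := fun i => ((t).triangleLEGE a (b - k) ha).obj (M i)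
    refine range_ext₂ T (fun i => (t).triangleLEGE_distinguished a (b - k) ha (M i)) ?_ ?_
    · have h : ∀ i, ∃ Y, Nonempty ((T i).obj₁ ≅ (DerivedCategory.singleFunctor A a).obj Y) := fun i => by
        haveI : (M i).IsGE a := hge' i
        haveI : DerivedCategory.IsGE (T i).obj₁ a :=
          inferInstanceAs ((t).IsGE (((t).truncLE a).obj (M i)) a)
        haveI : DerivedCategory.IsLE (T i).obj₁ a :=
          inferInstanceAs ((t).IsLE (((t).truncLE a).obj (M i)) a)
        exact DerivedCategory.exists_iso_singleFunctor_obj_of_isGE_of_isLE (T i).obj₁ a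
      choose Y e using h
      exact fin'_of_iso G (fun i => (e i).some.symm) (fin'_single G hG Y a (by omega))
    · exact ih (fun i => (T i).obj₃) b hb
        (fun i => inferInstanceAs ((t).IsGE (((t).truncGE (b - k)).obj (M i)) (b - k)))
        (fun i => by
          haveI := hle i
          exact inferInstanceAs ((t).IsLE (((t).truncGE (b - k)).obj (M i)) b))

include hG in
/-- Bounded below sums. -/
theorem bijective_homSum {ι : Type v} (M : ι → DerivedCategory A) [HasCoproduct M] (a : ℤ)
    (hM : ∀ i, (M i).IsGE a) :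
    Function.Bijective (homSumToHomCoprod ((DerivedCategory.singleFunctor A 0).obj G) M) := by
  haveI := hasCoproducts (A := A)
  refine ⟨Compact.homSum_injective M, ?_⟩
  suffices h : Fin' G M from h
  rcases le_or_gt 1 a with ha | ha
  · exact fin'_of_isGE_one G M fun i => by
      haveI := hM i
      exact (t).isGE_of_ge (M i) 1 a ha
  · let T : ι → Triangle (DerivedCategory A) := fun i => ((t).triangleLEGE 0 1 rfl).obj (M i)
    refine range_ext₂ T (fun i => (t).triangleLEGE_distinguished 0 1 rfl (M i)) ?_ ?_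
    · refine fin'_bounded G hG (-a).toNat (fun i => (T i).obj₁) 0 le_rfl (fun i => ?_)
        (fun i => inferInstanceAs ((t).IsLE (((t).truncLE 0).obj (M i)) 0))
      rw [show (0 : ℤ) - ((-a).toNat : ℤ) = a by omega]
      haveI := hM i
      exact inferInstanceAs ((t).IsGE (((t).truncLE 0).obj (M i)) a)
    · exact fin'_of_isGE_one G (fun i => (T i).obj₃)
        fun i => inferInstanceAs ((t).IsGE (((t).truncGE 1).obj (M i)) 1)

end Derived

end Groth.Agent.Lib.FreeCompact.BddBelow
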