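import Groth.Agent.Lib.FreeCompact.Local
import Groth.Agent.Lib.DerCat.HocolimQ
import Groth.Agent.Lib.DerivedOX.Exists
import Groth.Agent.Lib.ProEtDC.SingleProj
import Groth.Agent.Lib.Tor.HomologyColim

/-!
# Free modules on quasi-compact weakly contractible objects are compact
-/

set_option autoImplicit false
set_option linter.unusedSectionVars false
set_option linter.style.haveILetI false

universe v u

open CategoryTheory CategoryTheory.Limits Opposite

namespace Groth.Agent.Lib.FreeCompact

open Groth.Agent.Lib.DerCat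

section Gen

variable {A : Type u} [Category.{v} A] [Abelian A] [IsGrothendieckAbelian.{v} A]
  [HasDerivedCategory.{v} A]

/-- Cohomology objects commute with direct sums. -/
theorem preservesColimit_homology {ι : Type v} (Z : ι → DerivedCategory A) (n : ℤ) :
    PreservesColimit (Discrete.functor Z) (DerivedCategory.homologyFunctor A n) := by
  let K : ι → CochainComplex A ℤ := fun i => DerivedCategory.Q.objPreimage (Z i)
  haveI := HocolimQ.preservesColimitsOfShape_Q (A := A) ι
  haveI : HasFiniteBiproducts A := HasFiniteBiproducts.of_hasFiniteProducts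
  haveI := AB4.of_AB5 A
  haveI : HasExactColimitsOfShape (Discrete ι) A := AB4OfSize.ofShape _
  haveI : PreservesColimit (Discrete.functor K ⋙ DerivedCategory.Q)
      (DerivedCategory.homologyFunctor A n) := by
    refine preservesColimit_of_preserves_colimit_cocone
      (isColimitOfPreserves DerivedCategory.Q (coproductIsCoproduct K)) ?_
    let c : Cofan K := Cofan.mk (∐ K) (Sigma.ι K)
    let e : Discrete.functor K ⋙ DerivedCategory.Q ⋙ DerivedCategory.homologyFunctor A n ≅
        Discrete.functor K ⋙ HomologicalComplex.homologyFunctor A (ComplexShape.up ℤ) n :=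
      Functor.isoWhiskerLeft _ (DerivedCategory.homologyFunctorFactors A n)
    exact (IsColimit.equivOfNatIsoOfIso e
      ((DerivedCategory.Q ⋙ DerivedCategory.homologyFunctor A n).mapCocone c)
      ((HomologicalComplex.homologyFunctor A (ComplexShape.up ℤ) n).mapCocone c)
      (Cocone.ext ((DerivedCategory.homologyFunctorFactors A n).app (∐ K)) fun j => by
        refine (Category.assoc _ _ _).trans ((Iso.inv_comp_eq (e.app j)).2 ?_)
        exact (DerivedCategory.homologyFunctorFactors A n).hom.naturality (Sigma.ι K j.as))).symm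
      (isColimitOfPreserves _ (coproductIsCoproduct K))
  exact preservesColimit_of_iso_diagram _ (K₁ := Discrete.functor K ⋙ DerivedCategory.Q)
    (Discrete.natIso fun j => DerivedCategory.Q.objObjPreimageIso (Z j.as))

/-- A projective object all whose maps to sums are finitely supported is compact in the derived category. -/
theorem isCompactObject_single [HasCoproducts.{v} (DerivedCategory A)] (P : A) [Projective P]
    (hP : ∀ (ι : Type v) (F : ι → A) (s : P ⟶ ∐ F), ∃ T : Finset ι, s ≫ Compact.cut F T = s) :
    CohDer.IsCompactObject ((DerivedCategory.singleFunctor A 0).obj P) := by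
  refine (Compact.isCompactObject_iff _).2 fun ι Z x => ?_
  classical
  let H := DerivedCategory.homologyFunctor A 0
  haveI := preservesColimit_homology Z 0
  let θ : (∐ fun i => H.obj (Z i)) ≅ H.obj (∐ Z) := (PreservesCoproduct.iso H Z).symm
  have hθ : ∀ i, Sigma.ι (fun i => H.obj (Z i)) i ≫ θ.hom = H.map (Sigma.ι Z i) := fun i => by
    simp [θ, PreservesCoproduct.inv_hom]
  let h : P ⟶ H.obj (∐ Z) := ProEtDC.SingleProj.H₀ P ≫ H.map x
  obtain ⟨T, hT⟩ := hP ι _ (h ≫ θ.inv)
  have hcut : Compact.cut (fun i => H.obj (Z i)) T ≫ θ.hom = θ.hom ≫ H.map (Compact.cut Z T) := by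
    refine Sigma.hom_ext _ _ fun i => ?_
    rw [← Category.assoc, Compact.ι_cut, ← Category.assoc, hθ, ← Functor.map_comp, Compact.ι_cut]
    split_ifs with hi
    · exact hθ i
    · simp [Functor.map_zero]
  have hx : x ≫ Compact.cut Z T = x := by
    apply (ProEtDC.SingleProj.bijective_H₀ P (∐ Z)).1
    change ProEtDC.SingleProj.H₀ P ≫ H.map (x ≫ Compact.cut Z T) = h
    rw [Functor.map_comp]
    calc ProEtDC.SingleProj.H₀ P ≫ H.map x ≫ H.map (Compact.cut Z T)
        = ((h ≫ θ.inv) ≫ θ.hom) ≫ H.map (Compact.cut Z T) := by simp [h]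
      _ = ((h ≫ θ.inv) ≫ Compact.cut _ T) ≫ θ.hom := by simp only [Category.assoc, hcut]
      _ = h := by rw [hT]; simp
  rw [← hx]
  exact Compact.comp_cut_mem_range Z x T

end Gen

section Site

open Groth.Agent.Lib.FinPresFree.Site

variable {C : Type u} [SmallCategory C] {J : GrothendieckTopology C} (O : Sheaf J CommRingCat.{u})

/-- The same statement for `freeOn`. -/
theorem exists_cut_freeOn {U : C}
    (hU : CohCx.IsQcObject ((presheafToSheaf J (Type u)).obj (yoneda.obj U))) {ι : Type u}
    (F : ι → _root_.ModSite.Mod O) (s : _root_.ModSite.freeOn O U ⟶ ∐ F) :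
    ∃ T : Finset ι, s ≫ Compact.cut F T = s := by
  obtain ⟨T, hT⟩ := exists_cut O F hU ((freeIso O U).inv ≫ s)
  exact ⟨T, (cancel_epi (freeIso O U).inv).1 ((Category.assoc _ _ _).symm.trans hT)⟩

/-- Free modules on quasi-compact weakly contractible objects are compact in the derived category. -/
theorem isCompactObject_freeOn [HasDerivedCategory.{u} (_root_.ModSite.Mod O)]
    [HasCoproducts.{u} (DerivedCategory (_root_.ModSite.Mod O))] {U : C}
    (hqc : CohCx.IsQcObject ((presheafToSheaf J (Type u)).obj (yoneda.obj U)))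
    (hwc : CohSite.IsWeaklyContractible J U) :
    CohDer.IsCompactObject
      ((DerivedCategory.singleFunctor (_root_.ModSite.Mod O) 0).obj (_root_.ModSite.freeOn O U)) := by
  haveI := DerivedOX.Grothendieck.isGrothendieckAbelian_sheafOfModules (_root_.ModSite.ringSh O)
  haveI : Projective (_root_.ModSite.freeOn O U) :=
    haveI := projective_free O hwc
    Projective.of_iso (freeIso O U).symm inferInstance
  exact isCompactObject_single _ fun ι F s => exists_cut_freeOn O hqc F s

/-- Maps out of free modules on quasi-compact objects commute with direct sums. -/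
theorem preservesColimitsOfShape_coyoneda {U : C}
    (hU : CohCx.IsQcObject ((presheafToSheaf J (Type u)).obj (yoneda.obj U))) (ι : Type u) :
    PreservesColimitsOfShape (Discrete ι)
      (preadditiveCoyoneda.obj (op (_root_.ModSite.freeOn O U))) := by
  classical
  let P := _root_.ModSite.freeOn O U
  let G := preadditiveCoyoneda.obj (op P)
  suffices key : ∀ F : ι → _root_.ModSite.Mod O, PreservesColimit (Discrete.functor F) G from
    ⟨fun {K} => have := key fun a => K.obj ⟨a⟩
      preservesColimit_of_iso_diagram G Discrete.natIsoFunctor.symm⟩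
  intro F
  refine preservesColimit_of_preserves_colimit_cocone (coproductIsCoproduct F)
    ((isColimitMapCoconeCofanMkEquiv _ _ _).symm ?_)
  choose T hT using exists_cut_freeOn O hU F
  have hrep : ∀ x : P ⟶ ∐ F, x = ∑ i ∈ T x, (x ≫ Compact.proj F i) ≫ Sigma.ι F i := fun x => by
    conv_lhs => rw [← hT x, Compact.cut, Preadditive.comp_sum]
    simp only [Category.assoc]
  refine Cofan.IsColimit.mk _ (fun c => AddCommGrpCat.ofHom (AddMonoidHom.mk' (fun x : P ⟶ ∐ F =>
      ∑ i ∈ T x, c.inj i (x ≫ Compact.proj F i)) ?_)) ?_ ?_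
  · intro (x : P ⟶ ∐ F) (y : P ⟶ ∐ F)
    have hz : ∀ (x : P ⟶ ∐ F) (i : ι), i ∉ T x → x ≫ Compact.proj F i = 0 := fun x i hi => by
      rw [hrep x, Preadditive.sum_comp]
      refine Finset.sum_eq_zero fun j hj => ?_
      rw [Category.assoc, Compact.ι_proj_ne F (fun e => hi (by rw [← e]; exact hj)), comp_zero]
    have hext : ∀ (z : P ⟶ ∐ F) (S : Finset ι), T z ⊆ S →
        ∑ i ∈ T z, c.inj i (z ≫ Compact.proj F i) = ∑ i ∈ S, c.inj i (z ≫ Compact.proj F i) :=
      fun z S hS => Finset.sum_subset hS fun i _ hi => by rw [hz z i hi]; exact map_zero _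
    let S := T x ∪ T y ∪ T (x + y)
    rw [hext x S (fun a ha => Finset.mem_union_left _ (Finset.mem_union_left _ ha)),
      hext y S (fun a ha => Finset.mem_union_left _ (Finset.mem_union_right _ ha)),
      ← Finset.sum_add_distrib]
    refine (hext (x + y) S Finset.subset_union_right).trans ?_
    refine Finset.sum_congr rfl fun i _ => ?_
    refine (congrArg (c.inj i) (Preadditive.add_comp _ _ _ x y (Compact.proj F i))).trans ?_
    exact map_add _ _ _
  · intro c j
    refine AddCommGrpCat.ext fun (g : P ⟶ F j) => ?_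
    change ∑ i ∈ T (g ≫ Sigma.ι F j), c.inj i ((g ≫ Sigma.ι F j) ≫ Compact.proj F i) = c.inj j g
    rw [Finset.sum_eq_single j]
    · rw [Category.assoc, Compact.ι_proj, Category.comp_id]
    · intro i _ hi
      rw [Category.assoc, Compact.ι_proj_ne F (Ne.symm hi), comp_zero]
      exact map_zero _
    · intro hj
      have h0 : (g ≫ Sigma.ι F j) ≫ Compact.proj F j = 0 := by
        rw [hrep (g ≫ Sigma.ι F j), Preadditive.sum_comp]
        refine Finset.sum_eq_zero fun i hi => ?_
        rw [Category.assoc, Compact.ι_proj_ne F (fun e => hj (by subst e; exact hi)), comp_zero]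
      rw [h0]
      exact map_zero _
  · intro c m hm
    refine AddCommGrpCat.ext fun (x : P ⟶ ∐ F) => ?_
    change m x = ∑ i ∈ T x, c.inj i (x ≫ Compact.proj F i)
    conv_lhs => rw [hrep x]
    refine (map_sum m.hom _ _).trans (Finset.sum_congr rfl fun i _ => ?_)
    exact congrArg (fun f : G.obj (F i) ⟶ c.pt => f ((x ≫ Compact.proj F i : P ⟶ F i))) (hm i)

end Site

end Groth.Agent.Lib.FreeCompact
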