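import Groth.Agent.Lib.FreeCompact.Derived
import Groth.Agent.Lib.DerCat.CompactRetract

/-!
# Compact objects are retracts of bounded complexes of sums of free modules
-/

set_option autoImplicit false
set_option linter.unusedSectionVars false
set_option linter.style.haveILetI false

universe u

open CategoryTheory CategoryTheory.Limits Opposite

namespace Groth.Agent.Lib.FreeCompact

open Groth.Agent.Lib.FinPresFree.Site Groth.Agent.Lib.DerCat Groth.Agent.Lib.RlimTrunc

variable {C : Type u} [SmallCategory C] {J : GrothendieckTopology C} (O : Sheaf J CommRingCat.{u})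

/-- Every module is a quotient of a sum of free modules on quasi-compact objects. -/
theorem exists_epi_qc
    (hC : ∀ V : C, ∃ R ∈ J V, ∀ ⦃W : C⦄ (g : W ⟶ V), R g →
      ∃ (U : C) (a : W ⟶ U) (b : U ⟶ V),
        CohCx.IsQcObject ((presheafToSheaf J (Type u)).obj (yoneda.obj U)) ∧ a ≫ b = g)
    (X : _root_.ModSite.Mod O) :
    ∃ (ι : Type u) (U : ι → C) (π : (∐ fun i => _root_.ModSite.freeOn O (U i)) ⟶ X),
      (∀ i, CohCx.IsQcObject ((presheafToSheaf J (Type u)).obj (yoneda.obj (U i)))) ∧ Epi π := by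
  let I := Σ U : {U : C // CohCx.IsQcObject ((presheafToSheaf J (Type u)).obj (yoneda.obj U))},
    (_root_.ModSite.freeOn O U.1 ⟶ X)
  refine ⟨I, fun i => i.1.1, Sigma.desc fun i => i.2, fun i => i.1.2, ?_⟩
  refine Preadditive.epi_of_cancel_zero _ fun {Z} k hk => ?_
  refine (ModSheaf.isDetecting O).separating k fun V s => ?_
  obtain ⟨R, hR, hR'⟩ := hC V
  refine (ModSheaf.isDetecting O).eq_zero_of_local _ R hR fun W g hg => ?_
  obtain ⟨U, a, b, hU, rfl⟩ := hR' g hg
  have h := congrArg (fun t => Sigma.ι (fun i : I => _root_.ModSite.freeOn O i.1.1)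
    ⟨⟨U, hU⟩, (freeIso O U).hom ≫ (free O).map b ≫ s⟩ ≫ t) hk
  simp at h
  have h' : (free O).map b ≫ s ≫ k = 0 := by
    rw [← cancel_epi (freeIso O U).hom, comp_zero]
    simpa using h
  rw [Functor.map_comp, Category.assoc, h', comp_zero]

variable [HasFiniteBiproducts (_root_.ModSite.Mod O)]
  [HasDerivedCategory.{u} (_root_.ModSite.Mod O)]
  [HasCoproducts.{u} (DerivedCategory (_root_.ModSite.Mod O))]

/-- Compact objects are retracts of bounded complexes of finite sums of free modules. -/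
theorem exists_retract
    (hC : ∀ V : C, ∃ R ∈ J V, ∀ ⦃W : C⦄ (g : W ⟶ V), R g →
      ∃ (U : C) (a : W ⟶ U) (b : U ⟶ V),
        CohCx.IsQcObject ((presheafToSheaf J (Type u)).obj (yoneda.obj U)) ∧ a ≫ b = g)
    (K : DerivedCategory (_root_.ModSite.Mod O)) (hK : CohDer.IsCompactObject K) :
    ∃ (L : CochainComplex (_root_.ModSite.Mod O) ℤ) (a b : ℤ),
      (∀ i : ℤ, i < a ∨ b < i → IsZero (L.X i)) ∧
      (∀ i : ℤ, ∃ (n : ℕ) (U : Fin n → C),
        (∀ j, CohCx.IsQcObject ((presheafToSheaf J (Type u)).obj (yoneda.obj (U j)))) ∧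
        Nonempty (L.X i ≅ ⨁ fun j => _root_.ModSite.freeOn O (U j))) ∧
      Nonempty (Retract K (DerivedCategory.Q.obj L)) := by
  haveI := DerivedOX.Grothendieck.isGrothendieckAbelian_sheafOfModules (_root_.ModSite.ringSh O)
  let S : Set (_root_.ModSite.Mod O) := {M | ∃ U : C,
    CohCx.IsQcObject ((presheafToSheaf J (Type u)).obj (yoneda.obj U)) ∧ M = _root_.ModSite.freeOn O U}
  haveI : HasExactColimitsOfShape ℕ (_root_.ModSite.Mod O) := DerCat.KInjSmall.hasExactColimitsNat
  obtain ⟨L, a, b, h1, h2, h3⟩ := CompactRetract.exists_retract S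
    (fun E hE ι => by obtain ⟨U, hU, rfl⟩ := hE; exact preservesColimitsOfShape_coyoneda O hU ι)
    (fun X => by
      obtain ⟨ι, U, π, hU, hπ⟩ := exists_epi_qc O hC X
      exact ⟨ι, _, π, fun i => ⟨U i, hU i, rfl⟩, hπ⟩) K hK
  refine ⟨L, a, b, h1, fun i => ?_, h3⟩
  obtain ⟨n, E, hE, ⟨e⟩⟩ := CompactRetract.exists_fin S (h2 i)
  choose U hU hEU using hE
  exact ⟨n, U, hU, ⟨e ≪≫ biproduct.mapIso fun j => eqToIso (hEU j)⟩⟩

end Groth.Agent.Lib.FreeCompact
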